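import Mathlib
import Groth.Prelude
import Groth.Agent.Lib.Helper4.SmoothNormal1
import Groth.Agent.Lib.Helper4.DimFT1
import Groth.Agent.Lib.Helper8.IntClSemi1
import Groth.Agent.Lib.Helper7.Hensel.FiniteLocal

/-!
# Base change of a henselian normal local domain along a separable algebraic extension of a
coefficient field
-/

set_option linter.style.haveILetI false
set_option linter.unusedVariables false
set_option linter.unusedSectionVars false
set_option linter.overlappingInstances false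
set_option autoImplicit false
set_option backward.isDefEq.respectTransparency.types false
set_option backward.isDefEq.respectTransparency false
set_option synthInstance.maxHeartbeats 400000
set_option maxHeartbeats 1600000

universe u

open IsLocalRing TensorProduct Polynomial

namespace Groth.Agent.Helper7.SepTensor

section Normal

variable (k : Type u) [Field k] (R₀ : Type u) [CommRing R₀] [IsDomain R₀] [Algebra k R₀]
  [IsIntegrallyClosed R₀]
  (Ω : Type u) [Field Ω] [Algebra k Ω] [Algebra.IsSeparable k Ω] [IsDomain (R₀ ⊗[k] Ω)]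

theorem stage_injective (F : IntermediateField k Ω) :
    Function.Injective (Algebra.TensorProduct.map (AlgHom.id R₀ R₀) F.val :
      R₀ ⊗[k] F →ₐ[R₀] R₀ ⊗[k] Ω) := by
  have h := Module.Flat.lTensor_preserves_injective_linearMap (M := R₀)
    F.val.toLinearMap Subtype.val_injective
  exact h

theorem isIntegrallyClosed_stage (F : IntermediateField k Ω) [FiniteDimensional k F] :
    ∃ _ : IsDomain (R₀ ⊗[k] F), IsIntegrallyClosed (R₀ ⊗[k] F) := by
  have hj := stage_injective k R₀ Ω F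
  haveI hdom : IsDomain (R₀ ⊗[k] F) := Function.Injective.isDomain
    (Algebra.TensorProduct.map (AlgHom.id R₀ R₀) F.val :
      R₀ ⊗[k] F →ₐ[R₀] R₀ ⊗[k] Ω).toRingHom hj
  haveI : Algebra.IsSeparable k F := Algebra.isSeparable_tower_bot_of_isSeparable k F Ω
  haveI : Algebra.FormallyEtale k F := Algebra.FormallyEtale.of_isSeparable k F
  haveI : Algebra.FiniteType k F := inferInstance
  haveI : Algebra.FinitePresentation k F := Algebra.FinitePresentation.of_finiteType.mp inferInstance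
  haveI : Algebra.Etale k F := {}
  haveI : Algebra.Etale R₀ (R₀ ⊗[k] F) := inferInstance
  exact ⟨hdom,
    Groth.Agent.Lib.Helper4.SmoothNormal1.isIntegrallyClosed_of_isStandardEtale R₀ (R₀ ⊗[k] F)⟩

omit [IsDomain R₀] [IsIntegrallyClosed R₀] [IsDomain (R₀ ⊗[k] Ω)] in
theorem exists_stage (T : Set (R₀ ⊗[k] Ω)) (hT : T.Finite) :
    ∃ F : IntermediateField k Ω, FiniteDimensional k F ∧
      ∀ t ∈ T, ∃ t' : R₀ ⊗[k] F,
        (Algebra.TensorProduct.map (AlgHom.id R₀ R₀) F.val :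
          R₀ ⊗[k] F →ₐ[R₀] R₀ ⊗[k] Ω) t' = t := by
  classical
  obtain ⟨N', hN', hTN⟩ := TensorProduct.exists_finite_submodule_right_of_setFinite T hT
  obtain ⟨s, hs⟩ := Module.Finite.iff_fg.mp hN'
  have hNF : ∀ n ∈ N', n ∈ IntermediateField.adjoin k (s : Set Ω) := by
    intro n hn
    rw [← hs] at hn
    refine Submodule.span_induction
      (p := fun n _ => n ∈ IntermediateField.adjoin k (s : Set Ω)) ?_ ?_ ?_ ?_ hn
    · intro c hc
      exact IntermediateField.subset_adjoin k _ hc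
    · exact zero_mem _
    · intro x y _ _ hx hy
      exact add_mem hx hy
    · intro c x _ hx
      exact IntermediateField.smul_mem _ hx
  refine ⟨IntermediateField.adjoin k (s : Set Ω),
    IntermediateField.finiteDimensional_adjoin (fun x _ => Algebra.IsIntegral.isIntegral x), ?_⟩
  intro t ht
  obtain ⟨u, hu⟩ := hTN ht
  let ιN : N' →ₗ[k] (IntermediateField.adjoin k (s : Set Ω)) :=
    { toFun := fun n => ⟨n.1, hNF n.1 n.2⟩
      map_add' := fun _ _ => rfl
      map_smul' := fun _ _ => rfl }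
  have hcomp : (IntermediateField.adjoin k (s : Set Ω)).val.toLinearMap ∘ₗ ιN = N'.subtype := by
    ext n
    rfl
  refine ⟨ιN.lTensor R₀ u, ?_⟩
  have hjl : ∀ z : R₀ ⊗[k] (IntermediateField.adjoin k (s : Set Ω)),
      (Algebra.TensorProduct.map (AlgHom.id R₀ R₀) (IntermediateField.adjoin k (s : Set Ω)).val :
          R₀ ⊗[k] (IntermediateField.adjoin k (s : Set Ω)) →ₐ[R₀] R₀ ⊗[k] Ω) z =
        (IntermediateField.adjoin k (s : Set Ω)).val.toLinearMap.lTensor R₀ z := fun z => rfl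
  rw [hjl, ← LinearMap.lTensor_comp_apply, hcomp]
  exact hu

omit [IsDomain R₀] [IsIntegrallyClosed R₀] [IsDomain (R₀ ⊗[k] Ω)] [Algebra.IsSeparable k Ω] in
theorem mem_range_of_stage {RF R : Type u} [CommRing RF] [IsDomain RF] [IsIntegrallyClosed RF]
    [CommRing R] [IsDomain R] (j : RF →+* R) (hj : Function.Injective j)
    (a' b' : RF) (p' : RF[X]) (hp' : p'.Monic)
    (h : (p'.map j).eval₂ (algebraMap R (FractionRing R))
        (algebraMap R (FractionRing R) (j a') / algebraMap R (FractionRing R) (j b')) = 0) :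
    ∃ y : R, algebraMap R (FractionRing R) y =
      algebraMap R (FractionRing R) (j a') / algebraMap R (FractionRing R) (j b') := by
  have hjnzd : nonZeroDivisors RF ≤ (nonZeroDivisors R).comap j := by
    intro y hy
    rw [Submonoid.mem_comap]
    exact mem_nonZeroDivisors_of_ne_zero
      ((map_ne_zero_iff j hj).mpr (nonZeroDivisors.ne_zero hy))
  have hφ : ∀ z : RF,
      IsLocalization.map (M := nonZeroDivisors RF)
        (T := nonZeroDivisors R) (S := FractionRing RF)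
        (FractionRing R) j hjnzd
        (algebraMap RF (FractionRing RF) z) =
      algebraMap R (FractionRing R) (j z) := fun z =>
    IsLocalization.map_eq hjnzd z
  generalize IsLocalization.map (M := nonZeroDivisors RF)
        (T := nonZeroDivisors R) (S := FractionRing RF)
        (FractionRing R) j hjnzd = φ at hφ
  have hφx : φ (algebraMap RF (FractionRing RF) a' /
      algebraMap RF (FractionRing RF) b') =
      algebraMap R (FractionRing R) (j a') /
      algebraMap R (FractionRing R) (j b') := by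
    rw [map_div₀, hφ, hφ]
  have hint : IsIntegral RF (algebraMap RF (FractionRing RF) a' /
      algebraMap RF (FractionRing RF) b') := by
    refine ⟨p', hp', ?_⟩
    apply φ.injective
    rw [map_zero, Polynomial.hom_eval₂, hφx]
    have h1 : φ.comp (algebraMap RF (FractionRing RF)) =
        (algebraMap R (FractionRing R)).comp j := by
      ext z
      exact hφ z
    rw [h1, ← Polynomial.eval₂_map]
    exact h
  obtain ⟨y', hy'⟩ := (IsIntegrallyClosed.isIntegral_iff (R := RF)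
    (K := FractionRing RF)).mp hint
  refine ⟨j y', ?_⟩
  rw [← hφx, ← hy', hφ]

theorem isIntegrallyClosed_tensor : IsIntegrallyClosed (R₀ ⊗[k] Ω) := by
  classical
  rw [isIntegrallyClosed_iff (FractionRing (R₀ ⊗[k] Ω))]
  intro x hx
  obtain ⟨p, hp, hpx⟩ := hx
  obtain ⟨a, b, hb, rfl⟩ := IsFractionRing.div_surjective (A := R₀ ⊗[k] Ω) x
  have hT : ({a, b} ∪ (p.coeffs : Set (R₀ ⊗[k] Ω))).Finite :=
    (Set.toFinite {a, b}).union p.coeffs.finite_toSet
  obtain ⟨F, hF, hrange⟩ := exists_stage k R₀ Ω _ hT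
  haveI := hF
  obtain ⟨a', ha'⟩ := hrange a (Or.inl (by simp))
  obtain ⟨b', hb'⟩ := hrange b (Or.inl (by simp))
  have hlifts : p ∈ Polynomial.lifts (Algebra.TensorProduct.map (AlgHom.id R₀ R₀) F.val :
          R₀ ⊗[k] F →ₐ[R₀] R₀ ⊗[k] Ω).toRingHom := by
    rw [Polynomial.lifts_iff_coeff_lifts]
    intro n
    by_cases h0 : p.coeff n = 0
    · exact ⟨0, by rw [h0, map_zero]⟩
    · obtain ⟨t', ht'⟩ := hrange (p.coeff n) (Or.inr (Polynomial.coeff_mem_coeffs h0))
      exact ⟨t', ht'⟩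
  obtain ⟨p', hp'map, -, hp'monic⟩ := Polynomial.lifts_and_degree_eq_and_monic hlifts hp
  obtain ⟨hdomF, hicF⟩ := isIntegrallyClosed_stage k R₀ Ω F
  have key := mem_range_of_stage
    (Algebra.TensorProduct.map (AlgHom.id R₀ R₀) F.val :
          R₀ ⊗[k] F →ₐ[R₀] R₀ ⊗[k] Ω).toRingHom (stage_injective k R₀ Ω F) a' b' p' hp'monic (by
    rw [hp'map]
    have e1 : (Algebra.TensorProduct.map (AlgHom.id R₀ R₀) F.val :
          R₀ ⊗[k] F →ₐ[R₀] R₀ ⊗[k] Ω).toRingHom a' = a := ha'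
    have e2 : (Algebra.TensorProduct.map (AlgHom.id R₀ R₀) F.val :
          R₀ ⊗[k] F →ₐ[R₀] R₀ ⊗[k] Ω).toRingHom b' = b := hb'
    rw [e1, e2]
    exact hpx)
  have e1 : (Algebra.TensorProduct.map (AlgHom.id R₀ R₀) F.val :
        R₀ ⊗[k] F →ₐ[R₀] R₀ ⊗[k] Ω).toRingHom a' = a := ha'
  have e2 : (Algebra.TensorProduct.map (AlgHom.id R₀ R₀) F.val :
        R₀ ⊗[k] F →ₐ[R₀] R₀ ⊗[k] Ω).toRingHom b' = b := hb'
  rw [e1, e2] at key
  exact key

end Normal

section Hens

variable (k : Type u) [Field k] (R₀ : Type u) [CommRing R₀] [IsLocalRing R₀] [Algebra k R₀]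
  (hres : Function.Surjective (fun a : k => IsLocalRing.residue R₀ (algebraMap k R₀ a)))
  (Ω : Type u) [Field Ω] [Algebra k Ω]

include hres in
theorem decomp (x : R₀ ⊗[k] Ω) :
    ∃ c : Ω, x - (1 : R₀) ⊗ₜ[k] c ∈
      (maximalIdeal R₀).map (algebraMap R₀ (R₀ ⊗[k] Ω)) := by
  induction x using TensorProduct.induction_on with
  | zero => exact ⟨0, by simp⟩
  | tmul r c =>
    obtain ⟨a, ha⟩ := hres (IsLocalRing.residue R₀ r)
    have ha' : IsLocalRing.residue R₀ (algebraMap k R₀ a) = IsLocalRing.residue R₀ r := ha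
    have hm : r - algebraMap k R₀ a ∈ maximalIdeal R₀ := by
      rw [← IsLocalRing.residue_eq_zero_iff, map_sub, ha', sub_self]
    refine ⟨a • c, ?_⟩
    have h1 : r ⊗ₜ[k] c - (1 : R₀) ⊗ₜ[k] (a • c) =
        algebraMap R₀ (R₀ ⊗[k] Ω) (r - algebraMap k R₀ a) * ((1 : R₀) ⊗ₜ[k] c) := by
      have h2 : (algebraMap k R₀ a) ⊗ₜ[k] c = (1 : R₀) ⊗ₜ[k] (a • c) := by
        rw [Algebra.algebraMap_eq_smul_one, TensorProduct.smul_tmul]
      rw [Algebra.TensorProduct.algebraMap_apply, Algebra.TensorProduct.tmul_mul_tmul, one_mul]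
      simp only [Algebra.algebraMap_self, RingHom.id_apply, mul_one]
      rw [TensorProduct.sub_tmul, h2]
    rw [h1]
    exact Ideal.mul_mem_right _ _ (Ideal.mem_map_of_mem _ hm)
  | add x y hx hy =>
    obtain ⟨c₁, h₁⟩ := hx
    obtain ⟨c₂, h₂⟩ := hy
    refine ⟨c₁ + c₂, ?_⟩
    have h3 : x + y - (1 : R₀) ⊗ₜ[k] (c₁ + c₂) =
        (x - (1 : R₀) ⊗ₜ[k] c₁) + (y - (1 : R₀) ⊗ₜ[k] c₂) := by
      rw [TensorProduct.tmul_add]
      ring
    rw [h3]
    exact Ideal.add_mem _ h₁ h₂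

include hres in
theorem map_maximalIdeal_eq [IsLocalRing (R₀ ⊗[k] Ω)] [Algebra.IsIntegral R₀ (R₀ ⊗[k] Ω)] :
    (maximalIdeal R₀).map (algebraMap R₀ (R₀ ⊗[k] Ω)) = maximalIdeal (R₀ ⊗[k] Ω) := by
  have hle := Groth.Agent.Helper7.Hensel.map_maximalIdeal_le_maximalIdeal
    (R := R₀) (S := R₀ ⊗[k] Ω)
  apply le_antisymm hle
  intro x hx
  obtain ⟨c, hc⟩ := decomp k R₀ hres Ω x
  have h1 : (1 : R₀) ⊗ₜ[k] c ∈ maximalIdeal (R₀ ⊗[k] Ω) := by
    have h2 : (1 : R₀) ⊗ₜ[k] c = x - (x - (1 : R₀) ⊗ₜ[k] c) := by ring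
    rw [h2]
    exact Ideal.sub_mem _ hx (hle hc)
  have hc0 : c = 0 := by
    by_contra hne
    have hu : IsUnit ((Algebra.TensorProduct.includeRight : Ω →ₐ[k] R₀ ⊗[k] Ω) c) :=
      (isUnit_iff_ne_zero.mpr hne).map _
    exact (IsLocalRing.mem_maximalIdeal _).mp h1 hu
  rw [hc0, TensorProduct.tmul_zero, sub_zero] at hc
  exact hc

end Hens

section Main

theorem main
    (k : Type u) [Field k] (R₀ : Type u) [CommRing R₀] [IsDomain R₀] [HenselianLocalRing R₀]
    [Algebra k R₀] [IsIntegrallyClosed R₀] (d : WithBot ℕ∞) (hdim : ringKrullDim R₀ = d)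
    (hres : Function.Surjective (fun a : k => IsLocalRing.residue R₀ (algebraMap k R₀ a)))
    (Ω : Type u) [Field Ω] [Algebra k Ω] [Algebra.IsSeparable k Ω]
    [IsDomain (R₀ ⊗[k] Ω)] :
    ∃ _ : HenselianLocalRing (R₀ ⊗[k] Ω),
      IsIntegrallyClosed (R₀ ⊗[k] Ω) ∧
      ringKrullDim (R₀ ⊗[k] Ω) = d ∧
      Function.Surjective (fun a : Ω =>
        IsLocalRing.residue (R₀ ⊗[k] Ω)
          ((Algebra.TensorProduct.includeRight : Ω →ₐ[k] R₀ ⊗[k] Ω) a)) := by
  haveI : Algebra.IsIntegral k Ω := inferInstance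
  haveI : Algebra.IsIntegral R₀ (R₀ ⊗[k] Ω) := inferInstance
  haveI hloc : IsLocalRing (R₀ ⊗[k] Ω) :=
    Groth.Agent.Helper8.IntClSemi.isLocalRing_of_integral_domain R₀ (R₀ ⊗[k] Ω)
  have hm := map_maximalIdeal_eq k R₀ hres Ω
  have hG : Groth.Agent.Helper7.Hensel.Gabber (R₀ ⊗[k] Ω)
      ((maximalIdeal R₀).map (algebraMap R₀ (R₀ ⊗[k] Ω))) :=
    (Groth.Agent.Helper7.Hensel.Gabber.of_henselianLocalRing R₀).of_isIntegral
  rw [hm] at hG
  have hH : HenselianLocalRing (R₀ ⊗[k] Ω) :=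
    Groth.Agent.Helper7.Hensel.henselianLocalRing_of_gabber hG
  refine ⟨hH, isIntegrallyClosed_tensor k R₀ Ω, ?_, ?_⟩
  · have hinj : Function.Injective (algebraMap R₀ (R₀ ⊗[k] Ω)) :=
      Algebra.TensorProduct.includeLeft_injective (S := R₀) (algebraMap k Ω).injective
    rw [Groth.Agent.Lib.Helper4.DimFT1.ringKrullDim_eq_of_isIntegral_of_injective R₀
      (R₀ ⊗[k] Ω) hinj, hdim]
  · intro z
    obtain ⟨x, rfl⟩ := IsLocalRing.residue_surjective z
    obtain ⟨c, hc⟩ := decomp k R₀ hres Ω x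
    refine ⟨c, ?_⟩
    show IsLocalRing.residue (R₀ ⊗[k] Ω) ((1 : R₀) ⊗ₜ[k] c) = IsLocalRing.residue (R₀ ⊗[k] Ω) x
    symm
    rw [← sub_eq_zero, ← map_sub, IsLocalRing.residue_eq_zero_iff, ← hm]
    exact hc

end Main

end Groth.Agent.Helper7.SepTensor
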